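import Mathlib
import Cfsg.Agent.Psl3Cover.Forms

/-!
The finite check for `PSL₃(3)`: each normal form is a product of two conjugates of an element
of order `4`; the conjugating matrices are listed.
-/

set_option autoImplicit false

namespace CfsgLib.Psl3Cover

open Matrix

/-- The chosen element of order four. -/
def four : Matrix (Fin 3) (Fin 3) (ZMod 3) := !![0, 0, 1; 0, 1, 0; 2, 0, 0]

theorem formA_00 : Prod2 four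
    !![1, 0, 0; 1, 0, 2; 0, 1, 0] :=
  ⟨_, _, ⟨!![0, 0, 1; 0, 1, 1; 2, 0, 2], !![2, 0, 2; 2, 1, 0; 1, 0, 0], by decide, rfl⟩,
    ⟨!![1, 1, 1; 0, 1, 1; 0, 0, 1], !![1, 2, 0; 0, 1, 2; 0, 0, 1], by decide, rfl⟩, by decide⟩

theorem formA_01 : Prod2 four
    !![1, 0, 0; 1, 0, 2; 0, 1, 1] :=
  ⟨_, _, ⟨!![0, 0, 1; 0, 1, 2; 2, 0, 2], !![2, 0, 2; 1, 1, 0; 1, 0, 0], by decide, rfl⟩,
    ⟨!![0, 2, 1; 0, 2, 0; 1, 0, 2], !![1, 2, 1; 0, 2, 0; 1, 2, 0], by decide, rfl⟩, by decide⟩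

theorem formA_02 : Prod2 four
    !![1, 0, 0; 1, 0, 2; 0, 1, 2] :=
  ⟨_, _, ⟨!![0, 0, 1; 0, 1, 0; 2, 0, 2], !![2, 0, 2; 0, 1, 0; 1, 0, 0], by decide, rfl⟩,
    ⟨!![1, 1, 1; 0, 1, 2; 0, 0, 1], !![1, 2, 1; 0, 1, 1; 0, 0, 1], by decide, rfl⟩, by decide⟩

theorem formA_10 : Prod2 four
    !![1, 0, 1; 1, 0, 0; 0, 1, 0] :=
  ⟨_, _, ⟨!![0, 0, 1; 0, 1, 0; 2, 0, 0], !![0, 0, 2; 0, 1, 0; 1, 0, 0], by decide, rfl⟩,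
    ⟨!![0, 0, 1; 1, 0, 0; 2, 1, 1], !![0, 1, 0; 2, 1, 1; 1, 0, 0], by decide, rfl⟩, by decide⟩

theorem formA_11 : Prod2 four
    !![1, 0, 1; 1, 0, 0; 0, 1, 1] :=
  ⟨_, _, ⟨!![0, 0, 1; 0, 1, 0; 2, 2, 1], !![1, 2, 2; 0, 1, 0; 1, 0, 0], by decide, rfl⟩,
    ⟨!![0, 0, 1; 1, 0, 0; 2, 1, 2], !![0, 1, 0; 1, 1, 1; 1, 0, 0], by decide, rfl⟩, by decide⟩

theorem formA_12 : Prod2 four
    !![1, 0, 1; 1, 0, 0; 0, 1, 2] :=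
  ⟨_, _, ⟨!![0, 0, 1; 0, 1, 0; 2, 1, 2], !![2, 1, 2; 0, 1, 0; 1, 0, 0], by decide, rfl⟩,
    ⟨!![0, 0, 1; 1, 0, 0; 2, 1, 0], !![0, 1, 0; 0, 1, 1; 1, 0, 0], by decide, rfl⟩, by decide⟩

theorem formA_20 : Prod2 four
    !![1, 0, 2; 1, 0, 1; 0, 1, 0] :=
  ⟨_, _, ⟨!![0, 0, 1; 0, 1, 1; 2, 0, 0], !![0, 0, 2; 2, 1, 0; 1, 0, 0], by decide, rfl⟩,
    ⟨!![0, 2, 1; 1, 1, 0; 2, 1, 2], !![2, 0, 2; 1, 1, 1; 2, 1, 1], by decide, rfl⟩, by decide⟩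

theorem formA_21 : Prod2 four
    !![1, 0, 2; 1, 0, 1; 0, 1, 1] :=
  ⟨_, _, ⟨!![0, 0, 1; 0, 1, 0; 2, 0, 2], !![2, 0, 2; 0, 1, 0; 1, 0, 0], by decide, rfl⟩,
    ⟨!![0, 1, 1; 1, 1, 2; 1, 0, 0], !![0, 0, 1; 2, 2, 1; 2, 1, 2], by decide, rfl⟩, by decide⟩

theorem formA_22 : Prod2 four
    !![1, 0, 2; 1, 0, 1; 0, 1, 2] :=
  ⟨_, _, ⟨!![0, 0, 1; 0, 1, 0; 2, 2, 2], !![2, 2, 2; 0, 1, 0; 1, 0, 0], by decide, rfl⟩,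
    ⟨!![1, 0, 1; 1, 2, 0; 2, 2, 0], !![0, 2, 1; 0, 1, 1; 1, 1, 2], by decide, rfl⟩, by decide⟩

theorem formB_0001 : Prod2 four
    !![1, 0, 0; 1, 1, 0; 0, 0, 1] :=
  ⟨_, _, ⟨!![0, 0, 1; 0, 1, 0; 2, 0, 0], !![0, 0, 2; 0, 1, 0; 1, 0, 0], by decide, rfl⟩,
    ⟨!![0, 0, 1; 2, 2, 1; 1, 0, 0], !![0, 0, 1; 1, 2, 2; 1, 0, 0], by decide, rfl⟩, by decide⟩

theorem formB_0002 : Prod2 four
    !![1, 0, 0; 1, 2, 0; 0, 0, 2] :=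
  ⟨_, _, ⟨!![0, 1, 0; 0, 0, 1; 1, 0, 0], !![0, 0, 1; 1, 0, 0; 0, 1, 0], by decide, rfl⟩,
    ⟨!![0, 1, 0; 0, 2, 1; 1, 1, 0], !![2, 0, 1; 1, 0, 0; 1, 1, 0], by decide, rfl⟩, by decide⟩

theorem formB_0011 : Prod2 four
    !![1, 0, 0; 1, 1, 1; 0, 0, 1] :=
  ⟨_, _, ⟨!![0, 0, 1; 0, 1, 0; 2, 0, 0], !![0, 0, 2; 0, 1, 0; 1, 0, 0], by decide, rfl⟩,
    ⟨!![0, 0, 1; 0, 2, 2; 1, 0, 0], !![0, 0, 1; 2, 2, 0; 1, 0, 0], by decide, rfl⟩, by decide⟩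

theorem formB_0012 : Prod2 four
    !![1, 0, 0; 1, 2, 1; 0, 0, 2] :=
  ⟨_, _, ⟨!![0, 0, 1; 0, 1, 0; 2, 1, 2], !![2, 1, 2; 0, 1, 0; 1, 0, 0], by decide, rfl⟩,
    ⟨!![0, 1, 1; 0, 1, 2; 1, 1, 1], !![2, 0, 1; 2, 2, 0; 2, 1, 0], by decide, rfl⟩, by decide⟩

theorem formB_0021 : Prod2 four
    !![1, 0, 0; 1, 1, 2; 0, 0, 1] :=
  ⟨_, _, ⟨!![0, 0, 1; 0, 1, 0; 2, 0, 0], !![0, 0, 2; 0, 1, 0; 1, 0, 0], by decide, rfl⟩,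
    ⟨!![0, 0, 1; 1, 2, 0; 1, 0, 0], !![0, 0, 1; 0, 2, 1; 1, 0, 0], by decide, rfl⟩, by decide⟩

theorem formB_0022 : Prod2 four
    !![1, 0, 0; 1, 2, 2; 0, 0, 2] :=
  ⟨_, _, ⟨!![0, 0, 1; 0, 1, 1; 2, 1, 1], !![0, 1, 2; 2, 1, 0; 1, 0, 0], by decide, rfl⟩,
    ⟨!![1, 1, 1; 2, 0, 0; 0, 1, 2], !![0, 2, 0; 2, 2, 2; 2, 2, 1], by decide, rfl⟩, by decide⟩

theorem formB_0101 : Prod2 four
    !![1, 0, 1; 1, 1, 0; 0, 0, 1] :=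
  ⟨_, _, ⟨!![0, 0, 1; 0, 1, 0; 2, 1, 1], !![1, 1, 2; 0, 1, 0; 1, 0, 0], by decide, rfl⟩,
    ⟨!![1, 0, 1; 0, 0, 2; 2, 1, 0], !![1, 1, 0; 1, 1, 1; 0, 2, 0], by decide, rfl⟩, by decide⟩

theorem formB_0102 : Prod2 four
    !![1, 0, 1; 1, 2, 0; 0, 0, 2] :=
  ⟨_, _, ⟨!![0, 0, 1; 0, 1, 0; 2, 1, 0], !![0, 1, 2; 0, 1, 0; 1, 0, 0], by decide, rfl⟩,
    ⟨!![1, 1, 1; 1, 2, 0; 2, 2, 0], !![0, 2, 1; 0, 1, 1; 1, 0, 1], by decide, rfl⟩, by decide⟩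

theorem formB_0111 : Prod2 four
    !![1, 0, 1; 1, 1, 1; 0, 0, 1] :=
  ⟨_, _, ⟨!![0, 0, 1; 0, 1, 0; 2, 1, 2], !![2, 1, 2; 0, 1, 0; 1, 0, 0], by decide, rfl⟩,
    ⟨!![0, 2, 1; 1, 0, 0; 2, 1, 0], !![0, 1, 0; 0, 1, 1; 1, 1, 1], by decide, rfl⟩, by decide⟩

theorem formB_0112 : Prod2 four
    !![1, 0, 1; 1, 2, 1; 0, 0, 2] :=
  ⟨_, _, ⟨!![0, 0, 1; 0, 1, 1; 2, 1, 2], !![1, 1, 2; 2, 1, 0; 1, 0, 0], by decide, rfl⟩,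
    ⟨!![1, 0, 1; 0, 0, 1; 0, 2, 1], !![1, 2, 0; 0, 1, 2; 0, 1, 0], by decide, rfl⟩, by decide⟩

theorem formB_0121 : Prod2 four
    !![1, 0, 1; 1, 1, 2; 0, 0, 1] :=
  ⟨_, _, ⟨!![0, 0, 1; 0, 1, 1; 2, 1, 2], !![1, 1, 2; 2, 1, 0; 1, 0, 0], by decide, rfl⟩,
    ⟨!![0, 2, 1; 1, 2, 1; 2, 1, 0], !![2, 1, 0; 2, 1, 1; 0, 1, 1], by decide, rfl⟩, by decide⟩

theorem formB_0122 : Prod2 four
    !![1, 0, 1; 1, 2, 2; 0, 0, 2] :=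
  ⟨_, _, ⟨!![0, 0, 1; 1, 0, 0; 0, 1, 1], !![0, 1, 0; 2, 0, 1; 1, 0, 0], by decide, rfl⟩,
    ⟨!![0, 0, 1; 1, 2, 0; 0, 1, 1], !![2, 1, 1; 2, 0, 1; 1, 0, 0], by decide, rfl⟩, by decide⟩

theorem formB_0201 : Prod2 four
    !![1, 0, 2; 1, 1, 0; 0, 0, 1] :=
  ⟨_, _, ⟨!![0, 0, 1; 0, 1, 0; 2, 2, 1], !![1, 2, 2; 0, 1, 0; 1, 0, 0], by decide, rfl⟩,
    ⟨!![1, 0, 1; 0, 2, 2; 2, 2, 0], !![2, 2, 1; 1, 1, 1; 2, 1, 2], by decide, rfl⟩, by decide⟩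

theorem formB_0202 : Prod2 four
    !![1, 0, 2; 1, 2, 0; 0, 0, 2] :=
  ⟨_, _, ⟨!![0, 0, 1; 0, 1, 1; 2, 1, 0], !![2, 1, 2; 2, 1, 0; 1, 0, 0], by decide, rfl⟩,
    ⟨!![0, 0, 1; 0, 2, 0; 1, 1, 0], !![0, 1, 1; 0, 2, 0; 1, 0, 0], by decide, rfl⟩, by decide⟩

theorem formB_0211 : Prod2 four
    !![1, 0, 2; 1, 1, 1; 0, 0, 1] :=
  ⟨_, _, ⟨!![0, 0, 1; 0, 1, 0; 2, 2, 0], !![0, 2, 2; 0, 1, 0; 1, 0, 0], by decide, rfl⟩,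
    ⟨!![0, 2, 1; 2, 0, 0; 1, 1, 1], !![0, 2, 0; 1, 2, 2; 2, 2, 2], by decide, rfl⟩, by decide⟩

theorem formB_0212 : Prod2 four
    !![1, 0, 2; 1, 2, 1; 0, 0, 2] :=
  ⟨_, _, ⟨!![0, 0, 1; 1, 0, 0; 0, 1, 2], !![0, 1, 0; 1, 0, 1; 1, 0, 0], by decide, rfl⟩,
    ⟨!![0, 0, 1; 1, 1, 0; 0, 1, 2], !![2, 1, 2; 1, 0, 1; 1, 0, 0], by decide, rfl⟩, by decide⟩

theorem formB_0221 : Prod2 four
    !![1, 0, 2; 1, 1, 2; 0, 0, 1] :=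
  ⟨_, _, ⟨!![0, 0, 1; 0, 1, 0; 2, 2, 2], !![2, 2, 2; 0, 1, 0; 1, 0, 0], by decide, rfl⟩,
    ⟨!![1, 2, 1; 1, 2, 0; 2, 2, 0], !![0, 2, 1; 0, 1, 1; 1, 2, 0], by decide, rfl⟩, by decide⟩

theorem formB_0222 : Prod2 four
    !![1, 0, 2; 1, 2, 2; 0, 0, 2] :=
  ⟨_, _, ⟨!![0, 0, 1; 0, 1, 0; 2, 1, 1], !![1, 1, 2; 0, 1, 0; 1, 0, 0], by decide, rfl⟩,
    ⟨!![1, 1, 1; 0, 0, 2; 0, 1, 2], !![1, 2, 2; 0, 2, 1; 0, 2, 0], by decide, rfl⟩, by decide⟩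

theorem formB_1001 : Prod2 four
    !![1, 1, 0; 1, 2, 0; 0, 0, 1] :=
  ⟨_, _, ⟨!![0, 0, 1; 0, 1, 0; 2, 2, 2], !![2, 2, 2; 0, 1, 0; 1, 0, 0], by decide, rfl⟩,
    ⟨!![1, 2, 1; 1, 1, 0; 2, 0, 0], !![0, 0, 2; 0, 1, 1; 1, 1, 2], by decide, rfl⟩, by decide⟩

theorem formB_1002 : Prod2 four
    !![1, 1, 0; 1, 0, 0; 0, 0, 2] :=
  ⟨_, _, ⟨!![0, 0, 1; 0, 1, 0; 2, 1, 0], !![0, 1, 2; 0, 1, 0; 1, 0, 0], by decide, rfl⟩,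
    ⟨!![0, 2, 1; 1, 2, 0; 2, 0, 2], !![1, 2, 1; 1, 1, 1; 2, 1, 1], by decide, rfl⟩, by decide⟩

theorem formB_1011 : Prod2 four
    !![1, 1, 0; 1, 2, 1; 0, 0, 1] :=
  ⟨_, _, ⟨!![0, 0, 1; 0, 1, 0; 2, 2, 2], !![2, 2, 2; 0, 1, 0; 1, 0, 0], by decide, rfl⟩,
    ⟨!![1, 2, 1; 0, 1, 1; 1, 0, 0], !![0, 0, 1; 1, 2, 2; 2, 2, 1], by decide, rfl⟩, by decide⟩

theorem formB_1012 : Prod2 four
    !![1, 1, 0; 1, 0, 1; 0, 0, 2] :=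
  ⟨_, _, ⟨!![0, 0, 1; 0, 1, 0; 2, 0, 2], !![2, 0, 2; 0, 1, 0; 1, 0, 0], by decide, rfl⟩,
    ⟨!![0, 0, 1; 0, 1, 1; 2, 1, 2], !![1, 1, 2; 2, 1, 0; 1, 0, 0], by decide, rfl⟩, by decide⟩

theorem formB_1021 : Prod2 four
    !![1, 1, 0; 1, 2, 2; 0, 0, 1] :=
  ⟨_, _, ⟨!![0, 0, 1; 0, 1, 0; 2, 2, 2], !![2, 2, 2; 0, 1, 0; 1, 0, 0], by decide, rfl⟩,
    ⟨!![0, 1, 0; 0, 2, 1; 1, 0, 2], !![1, 1, 1; 1, 0, 0; 1, 1, 0], by decide, rfl⟩, by decide⟩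

theorem formB_1022 : Prod2 four
    !![1, 1, 0; 1, 0, 2; 0, 0, 2] :=
  ⟨_, _, ⟨!![0, 0, 1; 0, 1, 1; 2, 1, 2], !![1, 1, 2; 2, 1, 0; 1, 0, 0], by decide, rfl⟩,
    ⟨!![0, 2, 1; 2, 1, 1; 1, 0, 0], !![0, 0, 1; 1, 2, 2; 2, 2, 2], by decide, rfl⟩, by decide⟩

theorem formB_1101 : Prod2 four
    !![1, 1, 1; 1, 2, 0; 0, 0, 1] :=
  ⟨_, _, ⟨!![0, 0, 1; 0, 1, 0; 2, 0, 1], !![1, 0, 2; 0, 1, 0; 1, 0, 0], by decide, rfl⟩,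
    ⟨!![1, 0, 1; 1, 0, 0; 2, 1, 0], !![0, 1, 0; 0, 1, 1; 1, 2, 0], by decide, rfl⟩, by decide⟩

theorem formB_1102 : Prod2 four
    !![1, 1, 1; 1, 0, 0; 0, 0, 2] :=
  ⟨_, _, ⟨!![0, 0, 1; 0, 1, 0; 2, 0, 1], !![1, 0, 2; 0, 1, 0; 1, 0, 0], by decide, rfl⟩,
    ⟨!![0, 1, 1; 1, 1, 0; 2, 1, 1], !![1, 0, 2; 2, 1, 1; 2, 2, 2], by decide, rfl⟩, by decide⟩

theorem formB_1111 : Prod2 four
    !![1, 1, 1; 1, 2, 1; 0, 0, 1] :=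
  ⟨_, _, ⟨!![0, 0, 1; 0, 1, 0; 2, 0, 2], !![2, 0, 2; 0, 1, 0; 1, 0, 0], by decide, rfl⟩,
    ⟨!![1, 2, 1; 0, 0, 2; 0, 1, 1], !![1, 2, 1; 0, 1, 1; 0, 2, 0], by decide, rfl⟩, by decide⟩

theorem formB_1112 : Prod2 four
    !![1, 1, 1; 1, 0, 1; 0, 0, 2] :=
  ⟨_, _, ⟨!![0, 0, 1; 0, 1, 0; 2, 0, 0], !![0, 0, 2; 0, 1, 0; 1, 0, 0], by decide, rfl⟩,
    ⟨!![0, 2, 1; 1, 1, 1; 2, 2, 0], !![1, 2, 1; 2, 1, 1; 0, 1, 1], by decide, rfl⟩, by decide⟩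

theorem formB_1121 : Prod2 four
    !![1, 1, 1; 1, 2, 2; 0, 0, 1] :=
  ⟨_, _, ⟨!![0, 0, 1; 0, 1, 1; 2, 2, 1], !![2, 2, 2; 2, 1, 0; 1, 0, 0], by decide, rfl⟩,
    ⟨!![1, 0, 1; 0, 1, 2; 2, 0, 0], !![0, 0, 2; 1, 1, 1; 1, 0, 1], by decide, rfl⟩, by decide⟩

theorem formB_1122 : Prod2 four
    !![1, 1, 1; 1, 0, 2; 0, 0, 2] :=
  ⟨_, _, ⟨!![0, 0, 1; 0, 1, 0; 2, 1, 0], !![0, 1, 2; 0, 1, 0; 1, 0, 0], by decide, rfl⟩,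
    ⟨!![0, 1, 0; 0, 1, 1; 1, 0, 0], !![0, 0, 1; 1, 0, 0; 2, 1, 0], by decide, rfl⟩, by decide⟩

theorem formB_1201 : Prod2 four
    !![1, 1, 2; 1, 2, 0; 0, 0, 1] :=
  ⟨_, _, ⟨!![0, 0, 1; 0, 1, 1; 2, 0, 2], !![2, 0, 2; 2, 1, 0; 1, 0, 0], by decide, rfl⟩,
    ⟨!![1, 2, 1; 0, 2, 1; 0, 1, 1], !![1, 2, 0; 0, 1, 2; 0, 2, 2], by decide, rfl⟩, by decide⟩

theorem formB_1202 : Prod2 four
    !![1, 1, 2; 1, 0, 0; 0, 0, 2] :=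
  ⟨_, _, ⟨!![0, 0, 1; 0, 1, 0; 2, 2, 0], !![0, 2, 2; 0, 1, 0; 1, 0, 0], by decide, rfl⟩,
    ⟨!![0, 2, 1; 1, 2, 0; 2, 1, 1], !![2, 2, 1; 2, 1, 1; 0, 1, 1], by decide, rfl⟩, by decide⟩

theorem formB_1211 : Prod2 four
    !![1, 1, 2; 1, 2, 1; 0, 0, 1] :=
  ⟨_, _, ⟨!![0, 0, 1; 0, 1, 0; 2, 0, 0], !![0, 0, 2; 0, 1, 0; 1, 0, 0], by decide, rfl⟩,
    ⟨!![0, 2, 1; 1, 0, 0; 1, 1, 0], !![0, 1, 0; 0, 2, 1; 1, 2, 1], by decide, rfl⟩, by decide⟩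

theorem formB_1212 : Prod2 four
    !![1, 1, 2; 1, 0, 1; 0, 0, 2] :=
  ⟨_, _, ⟨!![0, 0, 1; 0, 1, 0; 2, 1, 0], !![0, 1, 2; 0, 1, 0; 1, 0, 0], by decide, rfl⟩,
    ⟨!![1, 1, 1; 1, 1, 0; 2, 0, 0], !![0, 0, 2; 0, 1, 1; 1, 2, 0], by decide, rfl⟩, by decide⟩

theorem formB_1221 : Prod2 four
    !![1, 1, 2; 1, 2, 2; 0, 0, 1] :=
  ⟨_, _, ⟨!![0, 0, 1; 0, 1, 0; 2, 1, 0], !![0, 1, 2; 0, 1, 0; 1, 0, 0], by decide, rfl⟩,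
    ⟨!![0, 0, 1; 2, 1, 0; 1, 1, 2], !![2, 1, 2; 2, 2, 2; 1, 0, 0], by decide, rfl⟩, by decide⟩

theorem formB_1222 : Prod2 four
    !![1, 1, 2; 1, 0, 2; 0, 0, 2] :=
  ⟨_, _, ⟨!![0, 0, 1; 0, 1, 0; 2, 2, 1], !![1, 2, 2; 0, 1, 0; 1, 0, 0], by decide, rfl⟩,
    ⟨!![0, 1, 1; 0, 0, 2; 2, 1, 1], !![1, 0, 2; 1, 1, 0; 0, 2, 0], by decide, rfl⟩, by decide⟩

theorem formB_2001 : Prod2 four
    !![1, 2, 0; 1, 0, 0; 0, 0, 1] :=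
  ⟨_, _, ⟨!![0, 0, 1; 0, 1, 0; 2, 1, 2], !![2, 1, 2; 0, 1, 0; 1, 0, 0], by decide, rfl⟩,
    ⟨!![0, 1, 1; 1, 1, 0; 2, 0, 0], !![0, 0, 2; 0, 1, 1; 1, 2, 2], by decide, rfl⟩, by decide⟩

theorem formB_2002 : Prod2 four
    !![1, 2, 0; 1, 1, 0; 0, 0, 2] :=
  ⟨_, _, ⟨!![0, 0, 1; 0, 1, 0; 2, 1, 1], !![1, 1, 2; 0, 1, 0; 1, 0, 0], by decide, rfl⟩,
    ⟨!![1, 0, 1; 0, 2, 2; 0, 0, 2], !![1, 0, 1; 0, 2, 1; 0, 0, 2], by decide, rfl⟩, by decide⟩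

theorem formB_2011 : Prod2 four
    !![1, 2, 0; 1, 0, 1; 0, 0, 1] :=
  ⟨_, _, ⟨!![0, 0, 1; 0, 1, 0; 2, 1, 2], !![2, 1, 2; 0, 1, 0; 1, 0, 0], by decide, rfl⟩,
    ⟨!![0, 1, 1; 2, 1, 0; 0, 0, 1], !![1, 2, 2; 1, 0, 2; 0, 0, 1], by decide, rfl⟩, by decide⟩

theorem formB_2012 : Prod2 four
    !![1, 2, 0; 1, 1, 1; 0, 0, 2] :=
  ⟨_, _, ⟨!![0, 0, 1; 0, 1, 0; 2, 2, 2], !![2, 2, 2; 0, 1, 0; 1, 0, 0], by decide, rfl⟩,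
    ⟨!![0, 1, 0; 1, 2, 1; 1, 2, 0], !![1, 0, 1; 1, 0, 0; 0, 1, 2], by decide, rfl⟩, by decide⟩

theorem formB_2021 : Prod2 four
    !![1, 2, 0; 1, 0, 2; 0, 0, 1] :=
  ⟨_, _, ⟨!![0, 0, 1; 0, 1, 0; 2, 1, 2], !![2, 1, 2; 0, 1, 0; 1, 0, 0], by decide, rfl⟩,
    ⟨!![0, 2, 1; 0, 2, 2; 2, 0, 1], !![2, 1, 2; 1, 1, 0; 2, 1, 0], by decide, rfl⟩, by decide⟩

theorem formB_2022 : Prod2 four
    !![1, 2, 0; 1, 1, 2; 0, 0, 2] :=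
  ⟨_, _, ⟨!![0, 0, 1; 0, 1, 0; 2, 0, 0], !![0, 0, 2; 0, 1, 0; 1, 0, 0], by decide, rfl⟩,
    ⟨!![0, 1, 1; 0, 0, 2; 2, 1, 0], !![1, 1, 2; 1, 1, 0; 0, 2, 0], by decide, rfl⟩, by decide⟩

theorem formB_2101 : Prod2 four
    !![1, 2, 1; 1, 0, 0; 0, 0, 1] :=
  ⟨_, _, ⟨!![0, 0, 1; 0, 1, 0; 2, 0, 0], !![0, 0, 2; 0, 1, 0; 1, 0, 0], by decide, rfl⟩,
    ⟨!![0, 1, 1; 1, 1, 0; 1, 2, 0], !![0, 2, 2; 0, 2, 1; 1, 1, 2], by decide, rfl⟩, by decide⟩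

theorem formB_2102 : Prod2 four
    !![1, 2, 1; 1, 1, 0; 0, 0, 2] :=
  ⟨_, _, ⟨!![0, 0, 1; 0, 1, 0; 2, 0, 2], !![2, 0, 2; 0, 1, 0; 1, 0, 0], by decide, rfl⟩,
    ⟨!![1, 0, 1; 0, 0, 2; 1, 1, 0], !![1, 1, 0; 2, 2, 1; 0, 2, 0], by decide, rfl⟩, by decide⟩

theorem formB_2111 : Prod2 four
    !![1, 2, 1; 1, 0, 1; 0, 0, 1] :=
  ⟨_, _, ⟨!![0, 0, 1; 0, 1, 0; 2, 2, 2], !![2, 2, 2; 0, 1, 0; 1, 0, 0], by decide, rfl⟩,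
    ⟨!![1, 2, 1; 1, 0, 0; 2, 1, 0], !![0, 1, 0; 0, 1, 1; 1, 0, 1], by decide, rfl⟩, by decide⟩

theorem formB_2112 : Prod2 four
    !![1, 2, 1; 1, 1, 1; 0, 0, 2] :=
  ⟨_, _, ⟨!![0, 0, 1; 0, 1, 1; 2, 2, 2], !![0, 2, 2; 2, 1, 0; 1, 0, 0], by decide, rfl⟩,
    ⟨!![0, 0, 1; 1, 0, 2; 0, 1, 2], !![1, 1, 0; 1, 0, 1; 1, 0, 0], by decide, rfl⟩, by decide⟩

theorem formB_2121 : Prod2 four
    !![1, 2, 1; 1, 0, 2; 0, 0, 1] :=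
  ⟨_, _, ⟨!![0, 0, 1; 0, 1, 0; 2, 1, 1], !![1, 1, 2; 0, 1, 0; 1, 0, 0], by decide, rfl⟩,
    ⟨!![0, 0, 1; 0, 2, 1; 1, 1, 1], !![1, 1, 1; 1, 2, 0; 1, 0, 0], by decide, rfl⟩, by decide⟩

theorem formB_2122 : Prod2 four
    !![1, 2, 1; 1, 1, 2; 0, 0, 2] :=
  ⟨_, _, ⟨!![0, 0, 1; 0, 1, 0; 2, 1, 1], !![1, 1, 2; 0, 1, 0; 1, 0, 0], by decide, rfl⟩,
    ⟨!![1, 0, 1; 2, 2, 0; 0, 0, 2], !![1, 0, 1; 2, 2, 2; 0, 0, 2], by decide, rfl⟩, by decide⟩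

theorem formB_2201 : Prod2 four
    !![1, 2, 2; 1, 0, 0; 0, 0, 1] :=
  ⟨_, _, ⟨!![0, 0, 1; 0, 1, 0; 2, 2, 0], !![0, 2, 2; 0, 1, 0; 1, 0, 0], by decide, rfl⟩,
    ⟨!![0, 1, 1; 1, 1, 0; 1, 1, 2], !![2, 2, 2; 1, 2, 1; 0, 1, 2], by decide, rfl⟩, by decide⟩

theorem formB_2202 : Prod2 four
    !![1, 2, 2; 1, 1, 0; 0, 0, 2] :=
  ⟨_, _, ⟨!![0, 0, 1; 0, 1, 1; 2, 1, 0], !![2, 1, 2; 2, 1, 0; 1, 0, 0], by decide, rfl⟩,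
    ⟨!![0, 1, 1; 0, 2, 0; 1, 0, 0], !![0, 0, 1; 0, 2, 0; 1, 1, 0], by decide, rfl⟩, by decide⟩

theorem formB_2211 : Prod2 four
    !![1, 2, 2; 1, 0, 1; 0, 0, 1] :=
  ⟨_, _, ⟨!![0, 0, 1; 0, 1, 0; 2, 0, 1], !![1, 0, 2; 0, 1, 0; 1, 0, 0], by decide, rfl⟩,
    ⟨!![1, 0, 1; 1, 2, 0; 2, 2, 0], !![0, 2, 1; 0, 1, 1; 1, 1, 2], by decide, rfl⟩, by decide⟩

theorem formB_2212 : Prod2 four
    !![1, 2, 2; 1, 1, 1; 0, 0, 2] :=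
  ⟨_, _, ⟨!![0, 0, 1; 0, 1, 0; 2, 1, 1], !![1, 1, 2; 0, 1, 0; 1, 0, 0], by decide, rfl⟩,
    ⟨!![0, 0, 1; 0, 1, 1; 2, 0, 1], !![1, 0, 2; 2, 1, 0; 1, 0, 0], by decide, rfl⟩, by decide⟩

theorem formB_2221 : Prod2 four
    !![1, 2, 2; 1, 0, 2; 0, 0, 1] :=
  ⟨_, _, ⟨!![0, 0, 1; 0, 1, 0; 2, 0, 2], !![2, 0, 2; 0, 1, 0; 1, 0, 0], by decide, rfl⟩,
    ⟨!![1, 1, 1; 0, 2, 2; 0, 2, 1], !![1, 1, 0; 0, 1, 1; 0, 1, 2], by decide, rfl⟩, by decide⟩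

theorem formB_2222 : Prod2 four
    !![1, 2, 2; 1, 1, 2; 0, 0, 2] :=
  ⟨_, _, ⟨!![0, 0, 1; 0, 1, 0; 2, 0, 1], !![1, 0, 2; 0, 1, 0; 1, 0, 0], by decide, rfl⟩,
    ⟨!![1, 1, 1; 2, 0, 0; 0, 1, 2], !![0, 2, 0; 2, 2, 2; 2, 2, 1], by decide, rfl⟩, by decide⟩

theorem prod2_caseA : ∀ a c : ZMod 3, Prod2 four !![1, 0, a; 1, 0, a - 1; 0, 1, c] := by
  intro a c
  fin_cases a <;> fin_cases c
  · exact formA_00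
  · exact formA_01
  · exact formA_02
  · exact formA_10
  · exact formA_11
  · exact formA_12
  · exact formA_20
  · exact formA_21
  · exact formA_22

theorem prod2_caseB : ∀ b c f i : ZMod 3, i ≠ 0 →
    Prod2 four !![1, b, c; 1, b + i, f; 0, 0, i] := by
  intro b c f i hi
  fin_cases b <;> fin_cases c <;> fin_cases f <;> fin_cases i
  · exact absurd rfl hi
  · exact formB_0001
  · exact formB_0002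
  · exact absurd rfl hi
  · exact formB_0011
  · exact formB_0012
  · exact absurd rfl hi
  · exact formB_0021
  · exact formB_0022
  · exact absurd rfl hi
  · exact formB_0101
  · exact formB_0102
  · exact absurd rfl hi
  · exact formB_0111
  · exact formB_0112
  · exact absurd rfl hi
  · exact formB_0121
  · exact formB_0122
  · exact absurd rfl hi
  · exact formB_0201
  · exact formB_0202
  · exact absurd rfl hi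
  · exact formB_0211
  · exact formB_0212
  · exact absurd rfl hi
  · exact formB_0221
  · exact formB_0222
  · exact absurd rfl hi
  · exact formB_1001
  · exact formB_1002
  · exact absurd rfl hi
  · exact formB_1011
  · exact formB_1012
  · exact absurd rfl hi
  · exact formB_1021
  · exact formB_1022
  · exact absurd rfl hi
  · exact formB_1101
  · exact formB_1102
  · exact absurd rfl hi
  · exact formB_1111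
  · exact formB_1112
  · exact absurd rfl hi
  · exact formB_1121
  · exact formB_1122
  · exact absurd rfl hi
  · exact formB_1201
  · exact formB_1202
  · exact absurd rfl hi
  · exact formB_1211
  · exact formB_1212
  · exact absurd rfl hi
  · exact formB_1221
  · exact formB_1222
  · exact absurd rfl hi
  · exact formB_2001
  · exact formB_2002
  · exact absurd rfl hi
  · exact formB_2011
  · exact formB_2012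
  · exact absurd rfl hi
  · exact formB_2021
  · exact formB_2022
  · exact absurd rfl hi
  · exact formB_2101
  · exact formB_2102
  · exact absurd rfl hi
  · exact formB_2111
  · exact formB_2112
  · exact absurd rfl hi
  · exact formB_2121
  · exact formB_2122
  · exact absurd rfl hi
  · exact formB_2201
  · exact formB_2202
  · exact absurd rfl hi
  · exact formB_2211
  · exact formB_2212
  · exact absurd rfl hi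
  · exact formB_2221
  · exact formB_2222

theorem sq_of_ne_zero : ∀ x : ZMod 3, x ≠ 0 → x * x = 1 := by decide

/-- Every non-scalar element of `SL₃(3)` is a product of two conjugates of `four`. -/
theorem prod2_four (M : Matrix.SpecialLinearGroup (Fin 3) (ZMod 3))
    (hM : M ∉ Subgroup.center (Matrix.SpecialLinearGroup (Fin 3) (ZMod 3))) :
    Prod2 four (M : Matrix (Fin 3) (Fin 3) (ZMod 3)) := by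
  haveI : Fact (Nat.Prime 3) := ⟨Nat.prime_three⟩
  have hsq := sq_of_ne_zero
  obtain ⟨G, hsim, h00, h10, h20⟩ := exists_sim_col M hM
  refine Prod2.of_sim hsim ?_
  have hdet : G.det = 1 := hsim.det_eq.symm.trans M.2
  rw [Matrix.det_fin_three, h00, h10, h20] at hdet
  have hG : G = !![1, G 0 1, G 0 2; 1, G 1 1, G 1 2; 0, G 2 1, G 2 2] := by
    ext p q
    fin_cases p <;> fin_cases q <;> simp [h00, h10, h20]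
  generalize G 0 1 = b, G 0 2 = c, G 1 1 = e, G 1 2 = f, G 2 1 = h, G 2 2 = i at hdet hG
  subst hG
  by_cases hh : h = 0
  · subst hh
    have hi : i ≠ 0 := fun hi => by subst hi; simp at hdet
    have hii : i * i = 1 := hsq i hi
    have he : e = b + i := by linear_combination i * hdet + (b - e) * hii
    subst he
    exact prod2_caseB b c f i hi
  · -- the cyclic case
    have hhh : h * h = 1 := hsq h hh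
    set P : Matrix (Fin 3) (Fin 3) (ZMod 3) := !![1, 0, b; 0, 1, e; 0, 0, h] with hP
    set Q : Matrix (Fin 3) (Fin 3) (ZMod 3) := !![1, 0, -(b * h); 0, 1, -(e * h); 0, 0, h] with hQ
    have hPQ : P * Q = 1 := by
      ext x y
      fin_cases x <;> fin_cases y <;> simp [hP, hQ, Matrix.mul_apply, Fin.sum_univ_three] <;>
        first
          | exact hhh
          | ring
          | linear_combination -b * hhh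
          | linear_combination -e * hhh
    have hQP : Q * P = 1 := mul_eq_one_comm.1 hPQ
    set N := Q * !![1, b, c; 1, e, f; 0, h, i] * P with hN
    refine Prod2.of_sim (G' := N) ⟨P, Q, hPQ, ?_⟩ ?_
    · calc !![1, b, c; 1, e, f; 0, h, i]
          = (P * Q) * !![1, b, c; 1, e, f; 0, h, i] * (P * Q) := by
            rw [hPQ, Matrix.one_mul, Matrix.mul_one]
        _ = _ := by rw [hN]; simp only [Matrix.mul_assoc]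
    have hNdet : N.det = 1 := by
      rw [hN, Matrix.det_mul, Matrix.det_mul, mul_right_comm, ← Matrix.det_mul, hQP,
        Matrix.det_one, one_mul, Matrix.det_fin_three]
      simp
      linear_combination hdet
    have hNe : N = !![1, 0, N 0 2; 1, 0, N 1 2; 0, 1, N 2 2] := by
      ext x y
      fin_cases x <;> fin_cases y <;>
        simp [hN, hP, hQ, Matrix.mul_apply, Fin.sum_univ_three] <;>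
        first
          | ring1
          | linear_combination hhh
          | linear_combination -b * hhh
          | linear_combination -e * hhh
    rw [hNe] at hNdet ⊢
    rw [Matrix.det_fin_three] at hNdet
    simp at hNdet
    have : N 1 2 = N 0 2 - 1 := by linear_combination -hNdet
    rw [this]
    exact prod2_caseA _ _

end CfsgLib.Psl3Cover
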